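import Cfsg.Agent.H675.GoodUni
import Cfsg.Agent.S0243
import Cfsg.Agent.S0280

/-!
# Fact A for `PSL_n(q)` and `PSU_n(q)`: `(|S|_p)² < |S|`
-/

set_option autoImplicit false

namespace Cfsg.Agent.H675

open Finset

theorem prod_q_pow (q k : ℕ) : ∏ i ∈ range k, q ^ (i + 1) = q ^ ((k + 1) * k / 2) := by
  rw [Finset.prod_pow_eq_pow_sum]
  congr 1
  have h := Finset.sum_range_id_mul_two (k + 1)
  rw [Finset.sum_range_succ', Nat.add_sub_cancel] at h
  omega

theorem prod_GL (q n : ℕ) : ∏ i ∈ range n, (q ^ n - q ^ i) =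
    (∏ i ∈ range n, q ^ i) * ∏ i ∈ range n, (q ^ (i + 1) - 1) := by
  rw [← Finset.prod_range_reflect (fun i => q ^ (i + 1) - 1) n, ← Finset.prod_mul_distrib]
  refine Finset.prod_congr rfl fun i hi => ?_
  have hi' := Finset.mem_range.1 hi
  rw [Nat.mul_sub, mul_one, ← pow_add]
  congr 2
  omega

/-- Fact A for `PSL_n(q)`. -/
theorem psl {F : Type*} [Field F] [Fintype F] {n : ℕ} (hn : 2 ≤ n)
    (hn2 : n = 2 → 4 ≤ Fintype.card F) :
    H678.Good (Nat.card (Matrix.ProjectiveSpecialLinearGroup (Fin n) F)) := by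
  obtain ⟨q, hF⟩ : ∃ q, q = Fintype.card F := ⟨_, rfl⟩
  have hq : 2 ≤ q := hF ▸ Fintype.one_lt_card
  have h := S0243.result hF.symm n hn
  rw [Fin.prod_univ_eq_prod_range (fun i => q ^ n - q ^ i) n, prod_GL q n] at h
  obtain ⟨k, rfl⟩ : ∃ k, n = k + 1 := ⟨n - 1, by omega⟩
  rw [Finset.prod_range_succ' (fun i => q ^ (i + 1) - 1), Finset.prod_range_succ'] at h
  simp only [Nat.zero_add, pow_one, pow_zero, mul_one] at h
  have h1 : Nat.gcd (k + 1) (q - 1) *
      Nat.card (Matrix.ProjectiveSpecialLinearGroup (Fin (k + 1)) F) =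
      (∏ i ∈ range k, q ^ (i + 1)) * ∏ i ∈ range k, (q ^ (i + 2) - 1) := by
    apply Nat.eq_of_mul_eq_mul_left (show 0 < q - 1 by omega)
    calc _ = Nat.gcd (k + 1) (q - 1) * ((q - 1) *
          Nat.card (Matrix.ProjectiveSpecialLinearGroup (Fin (k + 1)) F)) := by ring
      _ = _ := by rw [h]; ring
  rcases Nat.lt_or_ge k 2 with hk | hk
  · have hk1 : k = 1 := by omega
    subst hk1
    have hq4 : 4 ≤ q := hF ▸ hn2 rfl
    rw [Finset.prod_range_one, Finset.prod_range_one] at h1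
    simp only [Nat.zero_add, pow_one] at h1
    refine lin_two hq4 ?_ h1
    rcases Nat.even_or_odd q with he | ho
    · right
      refine ⟨he, ?_⟩
      rw [← Nat.coprime_iff_gcd_eq_one, Nat.coprime_two_left, ← Nat.not_even_iff_odd]
      intro h3
      rw [Nat.even_iff] at h3 he
      omega
    · left
      refine ⟨ho, ?_⟩
      have : 2 ∣ q - 1 := by
        obtain ⟨m, hm⟩ := ho
        exact ⟨m, by omega⟩
      exact Nat.gcd_eq_left this
  · exact lin_good hq hk (Nat.gcd_pos_of_pos_left _ (by omega)).ne' (Nat.gcd_dvd_right _ _) h1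

/-- Fact A for `PSU_n(q)`. -/
theorem psu {F : Type*} [Field F] [Fintype F] {n q : ℕ} (hF : Fintype.card F = q ^ 2) (hn : 3 ≤ n)
    (hn2 : ¬ (n = 3 ∧ q = 2)) : H678.Good (Nat.card (Cfsg.PSU n F q)) := by
  have hq : 2 ≤ q := by
    have h1 : 1 < q ^ 2 := hF ▸ Fintype.one_lt_card
    by_contra h2
    have : q = 0 ∨ q = 1 := by omega
    rcases this with rfl | rfl <;> norm_num at h1
  have h := S0280.result hF n (by omega)
  have hfun : ∀ i : ℕ, (if Even i then q ^ (i + 1) + 1 else q ^ (i + 1) - 1) =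
      f (-(q : ℤ)) (i + 1) := by
    intro i
    split_ifs with hi
    · rw [f_neg_odd q (hi.add_one)]
    · rw [f_neg_even q (by omega) (by rw [Nat.not_even_iff_odd] at hi; exact hi.add_one)]
  simp only [hfun] at h
  obtain ⟨k, rfl⟩ : ∃ k, n = k + 1 := ⟨n - 1, by omega⟩
  rw [Finset.prod_range_succ', Nat.add_sub_cancel, ← prod_q_pow, Nat.zero_add, fn1] at h
  have h1 : Nat.gcd (k + 1) (q + 1) * Nat.card (Cfsg.PSU (k + 1) F q) =
      (∏ i ∈ range k, q ^ (i + 1)) * ∏ i ∈ range k, f (-(q : ℤ)) (i + 2) := by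
    apply Nat.eq_of_mul_eq_mul_left (show 0 < q + 1 by omega)
    calc _ = Nat.gcd (k + 1) (q + 1) * ((q + 1) * Nat.card (Cfsg.PSU (k + 1) F q)) := by ring
      _ = _ := by rw [h]; ring
  exact uni_good hq (by omega) (by omega) (Nat.gcd_pos_of_pos_left _ (by omega)).ne'
    (Nat.gcd_dvd_right _ _) h1

end Cfsg.Agent.H675
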