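import Cfsg.Agent.H675.GoodLin2

/-!
# Fact A for the unitary groups, number theory
-/

set_option autoImplicit false

namespace Cfsg.Agent.H675

open Finset

theorem fn1 (q : ℕ) : f (-(q : ℤ)) 1 = q + 1 := by rw [f_neg_odd q (by decide), pow_one]

theorem fn2 {q : ℕ} (hq : 1 ≤ q) : f (-(q : ℤ)) 2 = q ^ 2 - 1 := f_neg_even q hq (by decide)

theorem fn3 (q : ℕ) : f (-(q : ℤ)) 3 = q ^ 3 + 1 := f_neg_odd q (by decide)

theorem fn_ge {q : ℕ} (hq : 1 ≤ q) (i : ℕ) : q ^ i - 1 ≤ f (-(q : ℤ)) i := by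
  rcases Nat.even_or_odd i with h | h
  · rw [f_neg_even q hq h]
  · rw [f_neg_odd q h]; omega

theorem fn_le {q : ℕ} (hq : 1 ≤ q) (i : ℕ) : f (-(q : ℤ)) i ≤ q ^ i + 1 := by
  rcases Nat.even_or_odd i with h | h
  · rw [f_neg_even q hq h]; omega
  · rw [f_neg_odd q h]

/-- the product of the `q ^ i - (-1) ^ i` is large -/
theorem uni_big {q k : ℕ} (hq : 2 ≤ q) (hk : 2 ≤ k) :
    (q + 1) * ∏ i ∈ range k, q ^ (i + 1) < ∏ i ∈ range k, f (-(q : ℤ)) (i + 2) := by
  induction k, hk using Nat.le_induction with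
  | base =>
    rw [prod_range_succ, prod_range_one, prod_range_succ, prod_range_one]
    simp only [Nat.zero_add, Nat.reduceAdd, pow_one]
    rw [fn2 (by omega), fn3]
    obtain ⟨r, rfl⟩ : ∃ r, q = r + 1 := ⟨q - 1, by omega⟩
    have h1 : (r + 1) ^ 2 - 1 = r * (r + 2) := by
      have : (r + 1) ^ 2 = r * (r + 2) + 1 := by ring
      omega
    rw [h1]
    have hr : 1 ≤ r := by omega
    have h2 : (r + 1 + 1) * ((r + 1) * (r + 1) ^ 2) < (r + 2) * ((r + 1) ^ 3 + 1) := by
      have : (r + 1 + 1) * ((r + 1) * (r + 1) ^ 2) + (r + 2) = (r + 2) * ((r + 1) ^ 3 + 1) := by ring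
      omega
    refine lt_of_lt_of_le h2 ?_
    exact Nat.mul_le_mul_right _ (Nat.le_mul_of_pos_left _ hr)
  | succ k hk ih =>
    rw [prod_range_succ, prod_range_succ, ← mul_assoc]
    have h1 : q ^ (k + 1) ≤ f (-(q : ℤ)) (k + 2) := by
      refine le_trans ?_ (fn_ge (by omega) _)
      have h2 : q ^ (k + 2) = q ^ (k + 1) * q := by ring
      have h3 : 0 < q ^ (k + 1) := by positivity
      have h4 : q ^ (k + 1) * 2 ≤ q ^ (k + 2) := by
        rw [h2]; exact Nat.mul_le_mul_left _ hq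
      omega
    exact Nat.mul_lt_mul_of_lt_of_le ih h1 (lt_of_lt_of_le (by positivity) h1)

/-- `q = 2`, `p = 3` -/
theorem uni_two_three {k : ℕ} (hk : 3 ≤ k) : L 3 (-((2 : ℕ) : ℤ)) k < R 3 (-((2 : ℕ) : ℤ)) 2 k := by
  have hQ : 2 ≤ (-((2 : ℕ) : ℤ)).natAbs := by decide
  have hp : Nat.Prime 3 := Nat.prime_three
  have hpQ : ¬ ((3 : ℕ) : ℤ) ∣ -((2 : ℕ) : ℤ) := by decide
  have f1' : f (-((2 : ℕ) : ℤ)) 1 = 3 := by decide
  have f2' : f (-((2 : ℕ) : ℤ)) 2 = 3 := by decide
  have f3' : f (-((2 : ℕ) : ℤ)) 3 = 9 := by decide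
  have f4' : f (-((2 : ℕ) : ℤ)) 4 = 15 := by decide
  have hm : ∀ i, i ≠ 0 → part 3 (f (-((2 : ℕ) : ℤ)) i) = 3 * part 3 i := by
    intro i hi
    have := part_f_mul hp (by decide) hQ hpQ one_ne_zero (by rw [f1']) hi
    rw [one_mul, f1'] at this
    rw [this]
    congr 1
    unfold part
    rw [Nat.Prime.factorization_self hp, pow_one]
  have p3 : part 3 3 = 3 := by
    unfold part; rw [Nat.Prime.factorization_self hp, pow_one]
  refine L_lt_R_of_base (k0 := 3) hp ?_ ?_ k hk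
  · have c1 : cop 3 (f (-((2 : ℕ) : ℤ)) 1) = 1 := by unfold cop; rw [f1', p3]
    have c4 : cop 3 (f (-((2 : ℕ) : ℤ)) 4) = 5 := by
      unfold cop; rw [hm 4 (by omega), f4', part_eq_one (by decide)]
    unfold L R
    rw [prod_range_succ, prod_range_succ, prod_range_one, prod_range_succ, prod_range_succ,
      prod_range_one]
    simp only [Nat.zero_add, Nat.reduceAdd]
    rw [hm 2 (by omega), hm 3 (by omega), hm 4 (by omega), c1, c4, p3,
      part_eq_one (n := 2) (by decide), part_eq_one (n := 4) (by decide)]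
    have h2 := cop_pos (p := 3) (f_ne_zero hQ (i := 2) (by omega))
    have h3 := cop_pos (p := 3) (f_ne_zero hQ (i := 3) (by omega))
    have h4 : 1 ≤ cop 3 (f (-((2 : ℕ) : ℤ)) 2) * cop 3 (f (-((2 : ℕ) : ℤ)) 3) := Nat.mul_pos h2 h3
    calc 1 * (3 * 1 * (3 * 3) * (3 * 1)) < 320 * 1 := by norm_num
      _ ≤ 320 * (cop 3 (f (-((2 : ℕ) : ℤ)) 2) * cop 3 (f (-((2 : ℕ) : ℤ)) 3)) :=
          Nat.mul_le_mul_left _ h4
      _ = _ := by ring
  · intro i hi
    refine le_mul_cop hQ (by omega) ?_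
    rw [hm _ (by omega)]
    calc 3 * part 3 (i + 2) ≤ 3 * (i + 2) := Nat.mul_le_mul_left _ (part_le (by omega))
      _ ≤ _ := ineq4 (by omega)

theorem uni_odd {p q : ℕ} (hp : p.Prime) (hq : 2 ≤ q) (hpq : ¬ p ∣ q) (hp2 : p ≠ 2) {k : ℕ}
    (hk : 2 ≤ k) (hk2 : ¬ (k = 2 ∧ q = 2)) : L p (-(q : ℤ)) k < R p (-(q : ℤ)) q k := by
  have hQ := natAbs_neg_two_le hq
  have hodd : Odd p := hp.odd_of_ne_two hp2
  have hpQ : ¬ (p : ℤ) ∣ -(q : ℤ) := by rw [dvd_neg, Int.natCast_dvd_natCast]; exact hpq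
  have hp2' : ¬ p ∣ 2 := fun h3 => hp2 ((Nat.prime_dvd_prime_iff_eq hp Nat.prime_two).1 h3)
  obtain ⟨e, he⟩ : ∃ e, e = orderOf ((-(q : ℤ) : ℤ) : ZMod p) := ⟨_, rfl⟩
  have he0 : e ≠ 0 := by rw [he]; exact orderOf_ne_zero hp hpQ
  have hdvd : p ∣ f (-(q : ℤ)) e := by rw [he]; exact dvd_f_orderOf
  have hmul : ∀ j, j ≠ 0 → part p (f (-(q : ℤ)) (e * j)) = part p (f (-(q : ℤ)) e) * part p j :=
    fun j hj => part_f_mul hp hodd hQ hpQ he0 hdvd hj
  have hone : ∀ i, ¬ e ∣ i → part p (f (-(q : ℤ)) i) = 1 := fun i hi =>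
    part_f_eq_one_of_not_dvd (by rw [← he]; exact hi)
  have hf1 : f (-(q : ℤ)) 1 = q + 1 := fn1 q
  have hf2 : f (-(q : ℤ)) 2 = q ^ 2 - 1 := fn2 (by omega)
  have hf3 : f (-(q : ℤ)) 3 = q ^ 3 + 1 := fn3 q
  rcases Nat.lt_or_ge e 2 with h1 | h1
  · -- `e = 1`, `p ∣ q + 1`
    have he1 : e = 1 := by omega
    subst he1
    have hm : ∀ i, i ≠ 0 → part p (f (-(q : ℤ)) i) = part p (q + 1) * part p i := by
      intro i hi
      have := hmul i hi
      rw [one_mul, hf1] at this
      exact this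
    rw [hf1] at hdvd
    have hg1 : part p (q + 1) ≤ q + 1 := part_le (by omega)
    rcases Nat.lt_or_ge q 3 with hq2 | hq3
    · have : q = 2 := by omega
      subst this
      have hp3 : p = 3 := (Nat.prime_dvd_prime_iff_eq hp Nat.prime_three).1 hdvd
      subst hp3
      exact uni_two_three (by omega)
    · refine L_lt_R_of_base (k0 := 2) hp ?_ ?_ k hk
      · -- `(q + 1) (g π) ^ 2 < q ^ 3 (q - 1) (q ^ 3 + 1) h1`
        unfold L R
        rw [prod_range_succ, prod_range_one, prod_range_succ, prod_range_one]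
        simp only [Nat.zero_add, Nat.reduceAdd, pow_one]
        have e1 : part p (q + 1) * cop p (f (-(q : ℤ)) 1) = q + 1 := by
          rw [hf1]; exact part_mul_cop _ _
        have e2 : part p (f (-(q : ℤ)) 2) * cop p (f (-(q : ℤ)) 2) = q ^ 2 - 1 := by
          rw [part_mul_cop, hf2]
        have e3 : part p (f (-(q : ℤ)) 3) * cop p (f (-(q : ℤ)) 3) = q ^ 3 + 1 := by
          rw [part_mul_cop, hf3]
        have g2 : part p (f (-(q : ℤ)) 2) = part p (q + 1) := by
          rw [hm 2 (by omega), part_eq_one hp2', mul_one]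
        have g3 : part p (f (-(q : ℤ)) 3) = part p (q + 1) * part p 3 := hm 3 (by omega)
        have hpi : part p 3 ≤ 3 := part_le (by omega)
        have hgp := part_pos hp (q + 1)
        have hpip := part_pos hp 3
        rw [g2] at e2 ⊢
        rw [g3] at e3 ⊢
        -- abstract
        generalize hg : part p (q + 1) = g at *
        generalize hπ : part p 3 = π at *
        generalize hh1 : cop p (f (-(q : ℤ)) 1) = h1' at *
        generalize hh2 : cop p (f (-(q : ℤ)) 2) = h2' at *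
        generalize hh3 : cop p (f (-(q : ℤ)) 3) = h3' at *
        obtain ⟨r, rfl⟩ : ∃ r, q = r + 1 := ⟨q - 1, by omega⟩
        have hsq : (r + 1) ^ 2 - 1 = r * (r + 2) := by
          have : (r + 1) ^ 2 = r * (r + 2) + 1 := by ring
          omega
        rw [hsq] at e2
        -- `h2' = r * h1'`
        have h2e : h2' = r * h1' := by
          have : g * h2' = g * (r * h1') := by
            rw [e2]
            calc r * (r + 2) = r * (g * h1') := by rw [e1]
              _ = _ := by ring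
          exact Nat.eq_of_mul_eq_mul_left hgp this
        have hr : 2 ≤ r := by omega
        have hh1pos : 0 < h1' := by
          rcases Nat.eq_zero_or_pos h1' with h0 | h0
          · rw [h0, mul_zero] at e1; omega
          · exact h0
        -- multiply by `g * π`
        have hbound : g * π ≤ 3 * (r + 2) := by
          calc g * π ≤ (r + 1 + 1) * 3 := Nat.mul_le_mul hg1 hpi
            _ = _ := by ring
        have key : (g * π) * (h1' * (g * (g * π))) <
            (g * π) * ((r + 1) * h2' * ((r + 1) ^ 2 * h3')) := by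
          have l1 : (g * π) * (h1' * (g * (g * π))) = (r + 2) * (g * π) ^ 2 := by
            calc _ = (g * h1') * (g * π) ^ 2 := by ring
              _ = _ := by rw [e1]
          have l2 : (g * π) * ((r + 1) * h2' * ((r + 1) ^ 2 * h3')) =
              (r + 1) ^ 3 * (r * h1') * ((r + 1) ^ 3 + 1) := by
            rw [h2e]
            calc _ = (r + 1) ^ 3 * (r * h1') * (g * π * h3') := by ring
              _ = _ := by rw [e3]
          rw [l1, l2]
          have l3 : (g * π) ^ 2 ≤ (3 * (r + 2)) ^ 2 := Nat.pow_le_pow_left hbound 2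
          calc (r + 2) * (g * π) ^ 2 ≤ (r + 2) * (3 * (r + 2)) ^ 2 := Nat.mul_le_mul_left _ l3
            _ < (r + 1) ^ 3 * r * ((r + 1) ^ 3 + 1) := by
              have : ∃ s, r = s + 2 := ⟨r - 2, by omega⟩
              obtain ⟨s, rfl⟩ := this
              have h0 : 0 ≤ s := Nat.zero_le s
              have hd : (s + 2 + 1) ^ 3 * (s + 2) * ((s + 2 + 1) ^ 3 + 1) =
                (s + 2 + 2) * (3 * (s + 2 + 2)) ^ 2 +
                  (s ^ 7 + 20 * s ^ 6 + 171 * s ^ 5 + 811 * s ^ 4 + 2297 * s ^ 3 + 3825 * s ^ 2 + 3294 * s + 936) := by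
                ring
              rw [hd]; omega
            _ ≤ (r + 1) ^ 3 * (r * h1') * ((r + 1) ^ 3 + 1) := by
              apply Nat.mul_le_mul_right
              apply Nat.mul_le_mul_left
              exact Nat.le_mul_of_pos_right _ hh1pos
        exact lt_of_mul_lt_mul_left key (Nat.zero_le _)
      · intro i hi
        refine le_mul_cop hQ (by omega) ?_
        rw [hm _ (by omega)]
        calc part p (q + 1) * part p (i + 2) ≤ (q + 1) * (i + 2) :=
              Nat.mul_le_mul hg1 (part_le (by omega))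
          _ ≤ _ := ineq3 hq3 (by omega)
  · have hpq1 : ¬ p ∣ q + 1 := by
      intro h2
      have h3 : p ∣ f (-(q : ℤ)) 1 := by rw [hf1]; exact h2
      have h4 := part_f_eq_one_of_not_dvd (p := p) (Q := -(q : ℤ)) (i := 1) (by
        rw [← he]; intro h5; have := Nat.dvd_one.1 h5; omega)
      have h5 : p ≤ part p (f (-(q : ℤ)) 1) := by
        have := dvd_part (k := 1) hp (f_ne_zero hQ one_ne_zero) (by rwa [pow_one])
        simpa using this
      have := hp.one_lt
      omega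
    have hc1 : cop p (f (-(q : ℤ)) 1) = q + 1 := by
      unfold cop
      rw [hf1, part_eq_one hpq1, Nat.div_one]
    have hqd : ∀ i, (q + 1) ∣ f (-(q : ℤ)) i := fun i => by rw [← hf1]; exact f_dvd _ (one_dvd _)
    have hc2 : q + 1 ≤ cop p (f (-(q : ℤ)) 2) :=
      Nat.le_of_dvd (cop_pos (f_ne_zero hQ (by omega))) (dvd_cop hp (hqd 2) hpq1)
    have hg2 : part p (f (-(q : ℤ)) 2) ≤ q - 1 := by
      have h3 := part_mul_le hQ hp (i := 2) (by omega) (hqd 2) hpq1
      rw [hf2] at h3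
      rw [hf2]
      obtain ⟨r, rfl⟩ : ∃ r, q = r + 1 := ⟨q - 1, by omega⟩
      have hsq : (r + 1) ^ 2 - 1 = r * (r + 1 + 1) := by
        have : (r + 1) ^ 2 = r * (r + 1 + 1) + 1 := by ring
        omega
      simp only [Nat.add_sub_cancel]
      have h4 : part p ((r + 1) ^ 2 - 1) * (r + 1 + 1) ≤ r * (r + 1 + 1) := by
        rw [hsq] at h3 ⊢; exact h3
      exact Nat.le_of_mul_le_mul_right h4 (by omega)
    -- the bound for `g e`
    have hge : part p (f (-(q : ℤ)) e) ≤ q ^ (e - 1) := by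
      have h3 : part p (f (-(q : ℤ)) e) * (q + 1) ≤ q ^ e + 1 :=
        (part_mul_le hQ hp he0 (hqd e) hpq1).trans (fn_le (by omega) e)
      by_contra h4
      push Not at h4
      have h5 : (q ^ (e - 1) + 1) * (q + 1) ≤ part p (f (-(q : ℤ)) e) * (q + 1) :=
        Nat.mul_le_mul_right _ h4
      have h6 : q ^ e = q ^ (e - 1) * q := by
        rw [← pow_succ]; congr 1; omega
      have h7 : 0 < q ^ (e - 1) := by positivity
      rw [h6] at h3
      have h8 : (q ^ (e - 1) + 1) * (q + 1) = q ^ (e - 1) * q + q ^ (e - 1) + q + 1 := by ring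
      omega
    refine L_lt_R_of_base (k0 := 1) hp ?_ ?_ k (by omega)
    · unfold L R
      rw [prod_range_one, prod_range_one, hc1]
      simp only [Nat.zero_add, pow_one]
      calc (q + 1) * part p (f (-(q : ℤ)) 2) ≤ (q + 1) * (q - 1) := Nat.mul_le_mul_left _ hg2
        _ < (q + 1) * q := Nat.mul_lt_mul_of_pos_left (by omega) (by omega)
        _ ≤ cop p (f (-(q : ℤ)) 2) * q := Nat.mul_le_mul_right _ hc2
        _ = _ := mul_comm _ _
    · intro i hi
      refine le_mul_cop hQ (by omega) ?_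
      by_cases h3 : e ∣ i + 2
      · obtain ⟨j, hj⟩ := h3
        have hj0 : j ≠ 0 := by rintro rfl; omega
        have h5 : i + 1 = e * j - 1 := by omega
        rw [hj, hmul j hj0, h5]
        exact (Nat.mul_le_mul hge (part_le (by omega))).trans (ineq5 hq (by omega) (by omega))
      · rw [hone _ h3]
        exact Nat.one_le_pow _ _ (by omega)

theorem uni_two_part {q : ℕ} (hq : 2 ≤ q) (hpq : ¬ 2 ∣ q) {k : ℕ}
    (hk : 2 ≤ k) : L 2 (-(q : ℤ)) k < R 2 (-(q : ℤ)) q k := by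
  have hq3 : 3 ≤ q := by omega
  have hQ := natAbs_neg_two_le hq
  have hpQ : ¬ (2 : ℤ) ∣ -(q : ℤ) := by
    have := Int.natCast_dvd_natCast (m := 2) (n := q)
    rw [show ((2 : ℕ) : ℤ) = 2 from rfl] at this
    rw [dvd_neg, this]; exact hpq
  have hf1 : f (-(q : ℤ)) 1 = q + 1 := fn1 q
  have hf2 : f (-(q : ℤ)) 2 = q ^ 2 - 1 := fn2 (by omega)
  have hf3 : f (-(q : ℤ)) 3 = q ^ 3 + 1 := fn3 q
  have hg3 : part 2 (f (-(q : ℤ)) 3) = part 2 (f (-(q : ℤ)) 1) := part_f_two_odd hQ hpQ (by decide)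
  have hg1le : part 2 (f (-(q : ℤ)) 1) ≤ q + 1 := by
    rw [← hf1]; exact part_le (f_ne_zero hQ one_ne_zero)
  have hg2le : part 2 (f (-(q : ℤ)) 2) ≤ q ^ 2 - 1 := by
    rw [← hf2]; exact part_le (f_ne_zero hQ (by omega))
  refine L_lt_R_of_base (k0 := 2) Nat.prime_two ?_ ?_ k hk
  · unfold L R
    rw [prod_range_succ, prod_range_one, prod_range_succ, prod_range_one]
    simp only [Nat.zero_add, Nat.reduceAdd, pow_one]
    have h1 : part 2 (f (-(q : ℤ)) 1) * cop 2 (f (-(q : ℤ)) 1) = q + 1 := by rw [part_mul_cop, hf1]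
    have h2 : part 2 (f (-(q : ℤ)) 3) * cop 2 (f (-(q : ℤ)) 3) = q ^ 3 + 1 := by
      rw [part_mul_cop, hf3]
    have h3 : cop 2 (f (-(q : ℤ)) 1) * (part 2 (f (-(q : ℤ)) 2) * part 2 (f (-(q : ℤ)) 3)) =
        (q + 1) * part 2 (f (-(q : ℤ)) 2) := by
      rw [hg3, ← h1]; ring
    rw [h3]
    have h6 : 0 < cop 2 (f (-(q : ℤ)) 2) := cop_pos (f_ne_zero hQ (by omega))
    have h7 : 0 < cop 2 (f (-(q : ℤ)) 3) := cop_pos (f_ne_zero hQ (by omega))
    -- `q + 1 ≤ q * cop 2 (f 3)`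
    have h8 : 2 ≤ cop 2 (f (-(q : ℤ)) 3) := by
      by_contra h9
      push Not at h9
      have h10 : cop 2 (f (-(q : ℤ)) 3) = 1 := by omega
      rw [h10, hg3, mul_one] at h2
      rw [h2] at hg1le
      have : q < q ^ 3 := by
        calc q = q ^ 1 := (pow_one q).symm
          _ < q ^ 3 := Nat.pow_lt_pow_right (by omega) (by norm_num)
      omega
    have h9 : part 2 (f (-(q : ℤ)) 2) < q ^ 2 := by
      have : 0 < q ^ 2 := by positivity
      omega
    calc (q + 1) * part 2 (f (-(q : ℤ)) 2) < (q * cop 2 (f (-(q : ℤ)) 3)) * q ^ 2 := by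
          refine Nat.mul_lt_mul_of_le_of_lt ?_ h9 (by positivity)
          calc q + 1 ≤ q * 2 := by omega
            _ ≤ _ := Nat.mul_le_mul_left _ h8
      _ ≤ (q * cop 2 (f (-(q : ℤ)) 3)) * q ^ 2 * (cop 2 (f (-(q : ℤ)) 2)) :=
          Nat.le_mul_of_pos_right _ h6
      _ = _ := by ring
  · intro i hi
    refine le_mul_cop hQ (by omega) ?_
    rcases Nat.even_or_odd (i + 2) with ⟨j, hj⟩ | ho
    · have hj' : i + 2 = 2 * j := by omega
      rw [hj', part_f_two hQ hpQ (by omega)]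
      have h5 : i + 1 = 2 * j - 1 := by omega
      rw [h5]
      exact (Nat.mul_le_mul hg2le (part_le (by omega))).trans (ineq1 hq (by omega))
    · rw [part_f_two_odd hQ hpQ ho]
      calc part 2 (f (-(q : ℤ)) 1) ≤ q + 1 := by omega
        _ ≤ q * q := by nlinarith
        _ = q ^ 2 := by ring
        _ ≤ q ^ (i + 1) := Nat.pow_le_pow_right (by omega) (by omega)

/-- **Fact A, unitary groups, `n = k + 1 ≥ 3`.** -/
theorem uni_good {q k c d : ℕ} (hq : 2 ≤ q) (hk : 2 ≤ k) (hk2 : ¬ (k = 2 ∧ q = 2)) (hd0 : d ≠ 0)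
    (hd : d ∣ q + 1)
    (h : d * c = (∏ i ∈ range k, q ^ (i + 1)) * ∏ i ∈ range k, f (-(q : ℤ)) (i + 2)) :
    H678.Good c := by
  have hQ := natAbs_neg_two_le hq
  intro p hp
  change (part p c) ^ 2 < c
  by_cases hpq : p ∣ q
  · refine core' hp hd0 ?_ ?_ h ?_ ?_
    · exact Finset.prod_ne_zero_iff.2 fun i _ => pow_ne_zero _ (by omega)
    · exact Finset.prod_ne_zero_iff.2 fun i _ => f_ne_zero hQ (by omega)
    · intro h1
      obtain ⟨i, -, hi⟩ := (Prime.dvd_finsetProd_iff hp.prime _).1 h1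
      exact not_dvd_f_of_dvd hp ((Int.natCast_dvd_natCast.2 hpq).neg_right) (by omega) hi
    · exact lt_of_le_of_lt (Nat.mul_le_mul_right _ (Nat.le_of_dvd (by omega) hd))
        (uni_big hq hk)
  · refine fin_of_L_lt_R hp hQ hpq (by omega) hd0 (by rw [fn1]; exact hd) h ?_
    by_cases hp2 : p = 2
    · subst hp2; exact uni_two_part hq hpq hk
    · exact uni_odd hp hq hpq hp2 hk hk2

end Cfsg.Agent.H675
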