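import Mathlib

/-!
# `p`-parts of `|Q ^ i - 1|` (`Q` an integer, `Q = q` or `Q = -q`)

* `part p n` : the `p`-part of `n`.
* `f Q i = |Q ^ i - 1|`; `f q i = q ^ i - 1`, `f (-q) i = q ^ i - (-1) ^ i`.
* `part_f_mul` : lifting the exponent, `p` odd, `p ∣ Q ^ e - 1`: `part p (f Q (e * j)) = part p (f Q e) * part p j`.
* `part_f_two` : the same for `p = 2`, `e = 2`.
* `part_f_two_odd` : `part 2 (f Q i) = part 2 (f Q 1)` for `i` odd.
-/

set_option autoImplicit false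

namespace Cfsg.Agent.H675

/-- The `p`-part of `n`. -/
def part (p n : ℕ) : ℕ := p ^ n.factorization p

theorem part_pos {p : ℕ} (hp : p.Prime) (n : ℕ) : 0 < part p n := pow_pos hp.pos _

theorem part_dvd (p n : ℕ) : part p n ∣ n := Nat.ordProj_dvd n p

theorem part_le {p n : ℕ} (hn : n ≠ 0) : part p n ≤ n :=
  Nat.le_of_dvd (Nat.pos_of_ne_zero hn) (part_dvd p n)

theorem part_mul {p a b : ℕ} (ha : a ≠ 0) (hb : b ≠ 0) : part p (a * b) = part p a * part p b := by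
  unfold part
  rw [Nat.factorization_mul ha hb, Finsupp.add_apply, pow_add]

theorem part_eq_one {p n : ℕ} (h : ¬ p ∣ n) : part p n = 1 := by
  unfold part
  rw [Nat.factorization_eq_zero_of_not_dvd h, pow_zero]

theorem part_one (p : ℕ) : part p 1 = 1 := by
  unfold part; simp

theorem part_prod {ι : Type*} {p : ℕ} (s : Finset ι) (g : ι → ℕ) (h : ∀ i ∈ s, g i ≠ 0) :
    part p (∏ i ∈ s, g i) = ∏ i ∈ s, part p (g i) := by
  classical
  induction s using Finset.induction_on with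
  | empty => simp [part_one]
  | insert a s ha ih =>
    rw [Finset.prod_insert ha, Finset.prod_insert ha,
      part_mul (h a (Finset.mem_insert_self _ _))
        (Finset.prod_ne_zero_iff.2 fun i hi => h i (Finset.mem_insert_of_mem hi)),
      ih fun i hi => h i (Finset.mem_insert_of_mem hi)]

/-- If `d ∣ n` and `d` is prime to `p`, the `p`-part of `n` is at most `n / d`. -/
theorem part_mul_dvd {p d n : ℕ} (hp : p.Prime) (hd : d ∣ n) (hpd : ¬ p ∣ d) :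
    part p n * d ∣ n := by
  refine Nat.Coprime.mul_dvd_of_dvd_of_dvd ?_ (part_dvd p n) hd
  exact Nat.Coprime.pow_left _ ((hp.coprime_iff_not_dvd).2 hpd)

theorem part_mono {p a b : ℕ} (hb : b ≠ 0) (h : a ∣ b) (hp : p.Prime) : part p a ≤ part p b := by
  have ha : a ≠ 0 := fun h0 => hb (Nat.eq_zero_of_zero_dvd (h0 ▸ h))
  exact Nat.pow_le_pow_right hp.pos (((Nat.factorization_le_iff_dvd ha hb).2 h) p)

theorem dvd_part {p k n : ℕ} (hp : p.Prime) (hn : n ≠ 0) (h : p ^ k ∣ n) : p ^ k ≤ part p n :=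
  Nat.pow_le_pow_right hp.pos ((hp.pow_dvd_iff_le_factorization hn).1 h)

/-- Comparison of `p`-parts through multiplicities. -/
theorem part_eq_of_emultiplicity {p a b c : ℕ} (hp : p.Prime) (ha : a ≠ 0) (hb : b ≠ 0) (hc : c ≠ 0)
    (h : emultiplicity p a = emultiplicity p b + emultiplicity p c) :
    part p a = part p b * part p c := by
  unfold part
  rw [← pow_add]
  congr 1
  have e1 : ∀ n : ℕ, n ≠ 0 → emultiplicity p n = (n.factorization p : ℕ∞) := by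
    intro n hn
    rw [← Nat.multiplicity_eq_factorization hp hn]
    exact (Nat.finiteMultiplicity_iff.2 ⟨hp.one_lt.ne', Nat.pos_of_ne_zero hn⟩).emultiplicity_eq_multiplicity
  rw [e1 a ha, e1 b hb, e1 c hc] at h
  exact_mod_cast h

/-- `f Q i = |Q ^ i - 1|`. -/
def f (Q : ℤ) (i : ℕ) : ℕ := (Q ^ i - 1).natAbs

theorem f_dvd (Q : ℤ) {i j : ℕ} (h : i ∣ j) : f Q i ∣ f Q j := by
  unfold f
  rw [Int.natAbs_dvd_natAbs]
  obtain ⟨k, rfl⟩ := h
  rw [pow_mul]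
  simpa using sub_dvd_pow_sub_pow (Q ^ i) 1 k

theorem pow_ne_one {Q : ℤ} (hQ : 2 ≤ Q.natAbs) {i : ℕ} (hi : i ≠ 0) : Q ^ i ≠ 1 := by
  intro h
  have h1 : (Q ^ i).natAbs = 1 := by rw [h]; rfl
  rw [Int.natAbs_pow] at h1
  have h2 : Q.natAbs ≤ Q.natAbs ^ i := Nat.le_self_pow hi _
  omega

theorem f_ne_zero {Q : ℤ} (hQ : 2 ≤ Q.natAbs) {i : ℕ} (hi : i ≠ 0) : f Q i ≠ 0 := by
  unfold f
  rw [Int.natAbs_ne_zero, sub_ne_zero]
  exact pow_ne_one hQ hi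

theorem f_pos {Q : ℤ} (hQ : 2 ≤ Q.natAbs) {i : ℕ} (hi : i ≠ 0) : 0 < f Q i :=
  Nat.pos_of_ne_zero (f_ne_zero hQ hi)

/-- Lifting the exponent, odd `p`. -/
theorem part_f_mul {p : ℕ} (hp : p.Prime) (hodd : Odd p) {Q : ℤ} (hQ : 2 ≤ Q.natAbs)
    (hpQ : ¬ (p : ℤ) ∣ Q) {e : ℕ} (he : e ≠ 0) (hpe : p ∣ f Q e) {j : ℕ} (hj : j ≠ 0) :
    part p (f Q (e * j)) = part p (f Q e) * part p j := by
  have := Fact.mk hp
  refine part_eq_of_emultiplicity hp (f_ne_zero hQ (mul_ne_zero he hj)) (f_ne_zero hQ he) hj ?_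
  unfold f
  rw [Int.emultiplicity_natAbs, Int.emultiplicity_natAbs, pow_mul]
  have h1 : (p : ℤ) ∣ Q ^ e - 1 := Int.natCast_dvd.2 hpe
  have h2 : ¬ (p : ℤ) ∣ Q ^ e := fun h => hpQ (Int.Prime.dvd_pow' hp h)
  have h3 := Int.emultiplicity_pow_sub_pow hp hodd (x := Q ^ e) (y := 1) h1 h2 j
  rw [one_pow] at h3
  exact h3

/-- Lifting the exponent, `p = 2`, even exponents. -/
theorem part_f_two {Q : ℤ} (hQ : 2 ≤ Q.natAbs) (hQo : ¬ (2 : ℤ) ∣ Q) {j : ℕ} (hj : j ≠ 0) :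
    part 2 (f Q (2 * j)) = part 2 (f Q 2) * part 2 j := by
  refine part_eq_of_emultiplicity Nat.prime_two (f_ne_zero hQ (by omega)) (f_ne_zero hQ (by omega))
    hj ?_
  unfold f
  rw [Int.emultiplicity_natAbs, Int.emultiplicity_natAbs, pow_mul]
  have h1 : (4 : ℤ) ∣ Q ^ 2 - 1 := by
    have := Int.sq_mod_four_eq_one_of_odd (x := Q) (by
      rw [← Int.not_even_iff_odd, even_iff_two_dvd]; exact hQo)
    omega
  have h2 : ¬ (2 : ℤ) ∣ Q ^ 2 := fun h => hQo (Int.Prime.dvd_pow' Nat.prime_two h)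
  have h3 := Int.two_pow_sub_pow' (x := Q ^ 2) (y := 1) j h1 h2
  rw [one_pow] at h3
  rw [show ((2 : ℕ) : ℤ) = 2 from rfl, h3]
  congr 1
  exact_mod_cast Int.natCast_emultiplicity 2 j

/-- `p = 2`, odd exponents. -/
theorem part_f_two_odd {Q : ℤ} (hQ : 2 ≤ Q.natAbs) (hQo : ¬ (2 : ℤ) ∣ Q) {i : ℕ} (hi : Odd i) :
    part 2 (f Q i) = part 2 (f Q 1) := by
  obtain ⟨k, hk⟩ : f Q 1 ∣ f Q i := f_dvd Q (one_dvd i)
  have h0 := f_ne_zero hQ (i := i) (by rintro rfl; exact absurd hi (by decide))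
  have hk0 : k ≠ 0 := by rintro rfl; exact h0 (by simpa using hk)
  rw [hk, part_mul (f_ne_zero hQ one_ne_zero) hk0]
  suffices h2 : ¬ 2 ∣ k by rw [part_eq_one h2, mul_one]
  intro h2
  -- `k = |∑ Q ^ j|`, a sum of `i` odd numbers
  have hgeom : (Q ^ 1 - 1) * (∑ j ∈ Finset.range i, Q ^ j) = Q ^ i - 1 := by
    rw [pow_one, mul_geom_sum]
  have h3 : f Q 1 * (∑ j ∈ Finset.range i, Q ^ j).natAbs = f Q 1 * k := by
    rw [← hk]
    unfold f
    rw [← Int.natAbs_mul, hgeom]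
  have h4 := Nat.eq_of_mul_eq_mul_left (f_pos hQ one_ne_zero) h3
  rw [← h4] at h2
  have h5 : (2 : ℤ) ∣ ∑ j ∈ Finset.range i, Q ^ j := Int.natCast_dvd.2 (by simpa using h2)
  have hQodd : Odd Q := by rw [← Int.not_even_iff_odd, even_iff_two_dvd]; exact hQo
  have h6 : (∑ j ∈ Finset.range i, Q ^ j : ℤ) ≡ (∑ j ∈ Finset.range i, 1 : ℤ) [ZMOD 2] := by
    apply Int.ModEq.sum
    intro j _
    have : Odd (Q ^ j) := hQodd.pow
    rw [Int.ModEq]
    obtain ⟨m, hm⟩ := this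
    omega
  rw [Finset.sum_const, Finset.card_range, nsmul_eq_mul, mul_one] at h6
  obtain ⟨m, hm⟩ := hi
  rw [Int.ModEq] at h6
  omega

/-- For odd `p`, an exponent not divisible by the order gives trivial `p`-part. -/
theorem part_f_eq_one_of_not_dvd {p : ℕ} {Q : ℤ} {i : ℕ}
    (h : ¬ orderOf (Q : ZMod p) ∣ i) : part p (f Q i) = 1 := by
  apply part_eq_one
  intro h1
  apply h
  rw [orderOf_dvd_iff_pow_eq_one]
  have h2 : (p : ℤ) ∣ Q ^ i - 1 := Int.natCast_dvd.2 h1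
  have h3 : ((Q ^ i - 1 : ℤ) : ZMod p) = 0 := (ZMod.intCast_zmod_eq_zero_iff_dvd _ _).2 h2
  push_cast at h3
  exact sub_eq_zero.1 h3

theorem dvd_f_orderOf {p : ℕ} {Q : ℤ} : p ∣ f Q (orderOf (Q : ZMod p)) := by
  have h3 : ((Q ^ (orderOf (Q : ZMod p)) - 1 : ℤ) : ZMod p) = 0 := by
    push_cast
    rw [pow_orderOf_eq_one, sub_self]
  exact Int.natCast_dvd.1 ((ZMod.intCast_zmod_eq_zero_iff_dvd _ _).1 h3)

theorem orderOf_ne_zero {p : ℕ} (hp : p.Prime) {Q : ℤ} (hpQ : ¬ (p : ℤ) ∣ Q) :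
    orderOf (Q : ZMod p) ≠ 0 := by
  have := Fact.mk hp
  have h0 : (Q : ZMod p) ≠ 0 := fun h => hpQ ((ZMod.intCast_zmod_eq_zero_iff_dvd _ _).1 h)
  have h1 : (Q : ZMod p) ^ (p - 1) = 1 := ZMod.pow_card_sub_one_eq_one h0
  exact (orderOf_pos_iff.2 (isOfFinOrder_iff_pow_eq_one.2 ⟨p - 1, by have := hp.two_le; omega, h1⟩)).ne'

/-- The general bound, `p` odd: `e` the order of `Q` modulo `p`. -/
theorem part_f_le {p : ℕ} (hp : p.Prime) (hodd : Odd p) {Q : ℤ} (hQ : 2 ≤ Q.natAbs)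
    (hpQ : ¬ (p : ℤ) ∣ Q) {j : ℕ} (hj : j ≠ 0) :
    part p (f Q (orderOf (Q : ZMod p) * j)) = part p (f Q (orderOf (Q : ZMod p))) * part p j :=
  part_f_mul hp hodd hQ hpQ (orderOf_ne_zero hp hpQ) dvd_f_orderOf hj

/-- Values: `Q = q`. -/
theorem f_nat (q i : ℕ) (hq : 1 ≤ q) : f (q : ℤ) i = q ^ i - 1 := by
  unfold f
  have h1 : 1 ≤ q ^ i := Nat.one_le_pow _ _ hq
  have : ((q : ℤ) ^ i - 1) = ((q ^ i - 1 : ℕ) : ℤ) := by
    rw [Nat.cast_sub h1]; push_cast; ring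
  rw [this, Int.natAbs_natCast]

/-- Values: `Q = -q`, even exponent. -/
theorem f_neg_even (q : ℕ) {i : ℕ} (hq : 1 ≤ q) (hi : Even i) : f (-(q : ℤ)) i = q ^ i - 1 := by
  rw [← f_nat q i hq]
  unfold f
  rw [hi.neg_pow]

/-- Values: `Q = -q`, odd exponent. -/
theorem f_neg_odd (q : ℕ) {i : ℕ} (hi : Odd i) : f (-(q : ℤ)) i = q ^ i + 1 := by
  unfold f
  rw [hi.neg_pow]
  have : (-(q : ℤ) ^ i - 1) = -((q ^ i + 1 : ℕ) : ℤ) := by push_cast; ring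
  rw [this, Int.natAbs_neg, Int.natAbs_natCast]

end Cfsg.Agent.H675
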